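import Mathlib

/-!
# Flatness of completed tensor products over a field
-/

set_option autoImplicit false

universe u

open TensorProduct

namespace CTensorFlat

variable {A : Type u} [CommRing A]

/-- Artin–Rees for syzygies. -/
theorem exists_approx [IsNoetherianRing A] (a : Ideal A) {l : ℕ} (f : Fin l → A) :
    ∃ c, ∀ N (v : Fin l → A), ∑ i, v i * f i ∈ a ^ (N + c) →
      ∃ w : Fin l → A, (∀ i, w i ∈ a ^ N) ∧ v - w ∈ LinearMap.ker (Fintype.linearCombination A f) := by
  let Φ : (Fin l → A) →ₗ[A] A := Fintype.linearCombination A f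
  obtain ⟨c, hc⟩ := Ideal.exists_pow_inf_eq_pow_smul a (LinearMap.range Φ)
  refine ⟨c, fun N v hv => ?_⟩
  have hΦ : Φ v = ∑ i, v i * f i := by simp [Φ, Fintype.linearCombination_apply]
  have h2 : Φ v ∈ a ^ (N + c) • (⊤ : Submodule A A) ⊓ LinearMap.range Φ :=
    ⟨by rw [smul_eq_mul, Ideal.mul_top, hΦ]; exact hv, v, rfl⟩
  rw [hc _ (Nat.le_add_left c N), Nat.add_sub_cancel] at h2
  have h3 : a ^ N • (a ^ c • (⊤ : Submodule A A) ⊓ LinearMap.range Φ) ≤
      Submodule.map Φ (a ^ N • ⊤) := by
    rw [Submodule.map_smul'', Submodule.map_top]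
    exact smul_mono_right _ inf_le_right
  obtain ⟨w, hw, hwv⟩ := h3 h2
  refine ⟨w, fun i => ?_, ?_⟩
  · have h4 : Submodule.map (LinearMap.proj i : (Fin l → A) →ₗ[A] A) (a ^ N • ⊤) ≤ a ^ N := by
      rw [Submodule.map_smul'', smul_eq_mul]
      exact Ideal.mul_le_left.trans le_rfl |>.trans le_rfl
    exact h4 ⟨w, hw, rfl⟩
  · rw [LinearMap.mem_ker, map_sub, sub_eq_zero]
    exact hwv.symm

/-- A vector with small coordinates is small. -/
theorem mem_smul_top_pi {R : Type u} [CommRing R] (L : Ideal R) {l : ℕ} (y : Fin l → R) (h : ∀ i, y i ∈ L) :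
    y ∈ L • (⊤ : Submodule R (Fin l → R)) := by
  classical
  rw [pi_eq_sum_univ' y]
  exact Submodule.sum_mem _ fun i _ => Submodule.smul_mem_smul (h i) Submodule.mem_top

variable {k : Type u} [Field k] [Algebra k A] {B : Type u} [CommRing B] [Algebra k B]

/-- The ideal `a^M ⊗ B + A ⊗ b^M`. -/
abbrev levelIdeal (a : Ideal A) (b : Ideal B) (M : ℕ) : Ideal (A ⊗[k] B) :=
  (a ^ M).map (algebraMap A (A ⊗[k] B)) ⊔
    (b ^ M).map (Algebra.TensorProduct.includeRight : B →ₐ[k] A ⊗[k] B)

variable {C : Type u} [CommRing C] [IsNoetherianRing C] [Algebra A C]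

/-- Flatness from density and separation of the levels. -/
theorem flat_of_levels [IsNoetherianRing A] (a : Ideal A) (b : Ideal B) (φ : A ⊗[k] B →ₐ[A] C)
    (hd : ∀ M x, ∃ p, x - φ p ∈ (levelIdeal a b M).map φ)
    (hi : ∀ M p, φ p ∈ (levelIdeal a b M).map φ → p ∈ levelIdeal a b M)
    (L : Ideal C) (hL : L ≤ Ideal.jacobson ⊥) (hle : ∀ M, (levelIdeal a b M).map φ ≤ L ^ M) :
    Module.Flat A C := by
  classical
  rw [Module.Flat.iff_forall_isTrivialRelation]
  intro l f x hx
  obtain ⟨n, v, hv⟩ := Submodule.fg_iff_exists_fin_generating_family.1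
    (IsNoetherian.noetherian (LinearMap.ker (Fintype.linearCombination A f)))
  let V : Fin n → (Fin l → C) := fun j i => algebraMap A C (v j i)
  let S : Submodule C (Fin l → C) := Submodule.span C (Set.range V)
  suffices hxS : x ∈ S by
    obtain ⟨y, hy⟩ := (Submodule.mem_span_range_iff_exists_fun C).1 hxS
    refine ⟨n, fun i j => v j i, y, fun i => ?_, fun j => ?_⟩
    · rw [← hy, Finset.sum_apply]
      refine Finset.sum_congr rfl fun j _ => ?_
      rw [Pi.smul_apply, smul_eq_mul, Algebra.smul_def, mul_comm]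
    · have h1 : v j ∈ LinearMap.ker (Fintype.linearCombination A f) := hv ▸ Submodule.subset_span ⟨j, rfl⟩
      rw [LinearMap.mem_ker, Fintype.linearCombination_apply] at h1
      simpa [mul_comm] using h1
  obtain ⟨c, hc⟩ := exists_approx a f
  have hK : ∀ w ∈ LinearMap.ker (Fintype.linearCombination A f), (fun i => algebraMap A C (w i)) ∈ S := by
    intro w hw
    rw [← hv] at hw
    have h1 : Submodule.span A (Set.range v) ≤ (S.restrictScalars A).comap ((Algebra.linearMap A C).compLeft (Fin l)) :=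
      Submodule.span_le.2 fun _ ⟨j, hj⟩ => hj ▸ Submodule.subset_span ⟨j, rfl⟩
    exact h1 hw
  have step : ∀ N, ∃ s ∈ S, ∀ i, x i - s i ∈ L ^ N := fun N => by
    let M := N + c
    have hLN : L ^ M ≤ L ^ N := Ideal.pow_le_pow_right (Nat.le_add_right N c)
    choose p hp using fun i => hd M (x i)
    have hsum : ∑ i, f i • p i ∈ levelIdeal a b M := by
      refine hi M _ ?_
      have h1 : φ (∑ i, f i • p i) = -∑ i, f i • (x i - φ (p i)) := by
        simp only [map_sum, map_smul, smul_sub, Finset.sum_sub_distrib, hx, zero_sub, neg_neg]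
      rw [h1]
      exact neg_mem (sum_mem fun i _ => Submodule.smul_of_tower_mem _ _ (hp i))
    let V' := Submodule.restrictScalars k (b ^ M)
    let e := Module.Basis.ofVectorSpace k (B ⧸ V')
    let lift : (B ⧸ V') →ₗ[k] B := e.constr k fun j => Function.surjInv (Submodule.mkQ_surjective V') (e j)
    have hlift : ∀ y, V'.mkQ (lift y) = y := by
      have h1 : V'.mkQ ∘ₗ lift = LinearMap.id := e.ext fun j => by
        simp only [LinearMap.comp_apply, lift, Module.Basis.constr_basis, LinearMap.id_apply]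
        exact Function.surjInv_eq (Submodule.mkQ_surjective V') (e j)
      exact fun y => LinearMap.congr_fun h1 y
    let T : A ⊗[k] B →ₗ[A] A ⊗[k] (B ⧸ V') := TensorProduct.AlgebraTensorModule.map LinearMap.id V'.mkQ
    let bA := Algebra.TensorProduct.basis A e
    have hT : ∀ p ∈ levelIdeal (k := k) a b M, ∀ j, bA.repr (T p) j ∈ a ^ M := by
      intro p hp j
      obtain ⟨p₁, h₁, p₂, h₂, rfl⟩ := Submodule.mem_sup.1 hp
      rw [map_add, map_add, Finsupp.add_apply]
      refine add_mem ?_ ?_
      · have h3 : p₁ ∈ (a ^ M • (⊤ : Submodule A (A ⊗[k] B))) := by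
          rw [Ideal.smul_top_eq_map, Submodule.restrictScalars_mem]; exact h₁
        have h4 : Submodule.map ((Finsupp.lapply j) ∘ₗ bA.repr.toLinearMap ∘ₗ T)
            (a ^ M • (⊤ : Submodule A (A ⊗[k] B))) ≤ a ^ M := by
          rw [Submodule.map_smul'', smul_eq_mul]
          exact Ideal.mul_le_left.trans le_rfl |>.trans le_rfl
        exact h4 ⟨p₁, h3, rfl⟩
      · have h3 : T p₂ = 0 := by
          rw [← Submodule.restrictScalars_mem k, Ideal.map_includeRight_eq] at h₂
          obtain ⟨t, rfl⟩ := h₂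
          clear hp
          induction t using TensorProduct.induction_on with
          | zero => simp
          | add t t' ht ht' => simp only [map_add, ht, ht', add_zero]
          | tmul y z =>
            show y ⊗ₜ[k] V'.mkQ (z : B) = 0
            rw [Submodule.mkQ_apply, (Submodule.Quotient.mk_eq_zero V').2 z.2, tmul_zero]
        rw [h3, map_zero, Finsupp.zero_apply]
        exact zero_mem _
    have hres : ∀ q : A ⊗[k] B,
        q - TensorProduct.AlgebraTensorModule.map (R := k) (A := A) LinearMap.id lift (T q) ∈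
          levelIdeal (k := k) a b M := by
      intro q
      induction q using TensorProduct.induction_on with
      | zero => simp
      | add q q' hq hq' => rw [map_add, map_add, add_sub_add_comm]; exact add_mem hq hq'
      | tmul y z =>
        refine Ideal.mem_sup_right ?_
        show y ⊗ₜ[k] z - y ⊗ₜ[k] lift (V'.mkQ z) ∈ _
        rw [← tmul_sub]
        have h1 : z - lift (V'.mkQ z) ∈ b ^ M := by
          show z - lift (V'.mkQ z) ∈ V'
          rw [← Submodule.Quotient.mk_eq_zero, ← Submodule.mkQ_apply, map_sub, hlift, sub_self]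
        rw [show y ⊗ₜ[k] (z - lift (V'.mkQ z)) = y ⊗ₜ[k] (1 : B) *
          (Algebra.TensorProduct.includeRight (z - lift (V'.mkQ z)) : A ⊗[k] B) by simp]
        exact Ideal.mul_mem_left _ _ (Ideal.mem_map_of_mem _ h1)
    let s : Finset _ := Finset.univ.biUnion fun i => (bA.repr (T (p i))).support
    let F := φ.toLinearMap ∘ₗ TensorProduct.AlgebraTensorModule.map (R := k) (A := A) LinearMap.id lift
    have hF : ∀ i, φ (p i) - ∑ j ∈ s, algebraMap A C (bA.repr (T (p i)) j) * F (bA j) ∈ L ^ N := fun i => by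
      have h1 : T (p i) = ∑ j ∈ s, bA.repr (T (p i)) j • bA j := by
        conv_lhs => rw [← bA.linearCombination_repr (T (p i)), Finsupp.linearCombination_apply]
        exact Finsupp.sum_of_support_subset _
          (Finset.subset_biUnion_of_mem (fun i => (bA.repr (T (p i))).support) (Finset.mem_univ i)) _ (by simp)
      have h2 : F (T (p i)) = ∑ j ∈ s, algebraMap A C (bA.repr (T (p i)) j) * F (bA j) := by
        conv_lhs => rw [h1, map_sum]
        exact Finset.sum_congr rfl fun j _ => by rw [map_smul, Algebra.smul_def]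
      rw [← h2]
      show φ (p i) - φ _ ∈ _
      rw [← map_sub]
      exact hLN (hle M (Ideal.mem_map_of_mem _ (hres (p i))))
    have hvec : ∀ j, ∃ w : Fin l → A, (∀ i, w i ∈ a ^ N) ∧
        (fun i => bA.repr (T (p i)) j) - w ∈ LinearMap.ker (Fintype.linearCombination A f) := fun j => by
      refine hc N _ ?_
      have h1 := hT _ hsum j
      simpa [map_sum, map_smul, Finsupp.finsetSum_apply, mul_comm] using h1
    choose w hw hwk using hvec
    refine ⟨∑ j ∈ s, F (bA j) • fun i => algebraMap A C (((fun i => bA.repr (T (p i)) j) - w j) i),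
      sum_mem fun j _ => S.smul_mem _ (hK _ (hwk j)), fun i => ?_⟩
    have e1 : x i - (∑ j ∈ s, F (bA j) • fun i =>
        algebraMap A C (((fun i => bA.repr (T (p i)) j) - w j) i)) i =
        (x i - φ (p i)) + (φ (p i) - ∑ j ∈ s, algebraMap A C (bA.repr (T (p i)) j) * F (bA j)) +
          ∑ j ∈ s, algebraMap A C (w j i) * F (bA j) := by
      simp only [Finset.sum_apply, Pi.smul_apply, Pi.sub_apply, smul_eq_mul, map_sub,
        mul_comm (F _)]
      simp only [sub_mul, Finset.sum_sub_distrib]
      ring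
    rw [e1]
    refine add_mem (add_mem (hLN (hle M (hp i))) (hF i)) (sum_mem fun j _ => Ideal.mul_mem_right _ _ ?_)
    refine hle N ?_
    rw [← AlgHom.commutes φ]
    exact Ideal.mem_map_of_mem _ (Ideal.mem_sup_left (Ideal.mem_map_of_mem _ (hw j i)))
  have : IsHausdorff L ((Fin l → C) ⧸ S) := IsHausdorff.of_le_jacobson L _ hL
  refine (Submodule.Quotient.mk_eq_zero S).1 (IsHausdorff.haus' (I := L) _ fun N => ?_)
  rw [SModEq.zero]
  obtain ⟨s, hs, hsx⟩ := step N
  have h5 : Submodule.map S.mkQ (L ^ N • ⊤) ≤ L ^ N • ⊤ := by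
    rw [Submodule.map_smul'']; exact smul_mono_right _ le_top
  have h6 : S.mkQ x = S.mkQ (x - s) := by
    rw [map_sub, Submodule.mkQ_apply S s, (Submodule.Quotient.mk_eq_zero S).2 hs, sub_zero]
  show S.mkQ x ∈ _
  rw [h6]
  exact h5 ⟨x - s, mem_smul_top_pi _ _ hsx, rfl⟩

end CTensorFlat
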