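import Groth.Prelude.Def_EGA4c
import Groth.Agent.CTensorLib.Flat
import Groth.Agent.AdicRingLib.Completion
import Groth.Agent.CompleteLib.Basic
import Groth.Agent.CompleteLib.Noetherian

/-!
# The completed tensor product is a Noetherian semilocal ring, flat over both factors
-/

set_option autoImplicit false
set_option linter.style.haveILetI false

universe u

attribute [local instance] Algebra.TensorProduct.rightAlgebra

open IsLocalRing TensorProduct CTensorFlat

namespace CTensorSemilocal

/-- An ideal containing a power of the ideal of definition is closed. -/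
theorem mem_of_algebraMap_mem {P : Type u} [CommRing P] {I : Ideal P} (hI : I.FG) {J : Ideal P} {n : ℕ}
    (h : I ^ n ≤ J) {x : P}
    (hx : algebraMap P (AdicCompletion I P) x ∈ J.map (algebraMap P (AdicCompletion I P))) : x ∈ J := by
  have key : ∀ y ∈ J.map (algebraMap P (AdicCompletion I P)), ∃ j ∈ J,
      y - algebraMap P (AdicCompletion I P) j ∈ (I ^ n).map (algebraMap P (AdicCompletion I P)) := by
    intro y hy
    rw [Ideal.map] at hy
    induction hy using Submodule.span_induction with
    | mem z hz => obtain ⟨j, hj, rfl⟩ := hz; exact ⟨j, hj, by simp⟩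
    | zero => exact ⟨0, J.zero_mem, by simp⟩
    | add a b _ _ ha hb =>
      obtain ⟨j, hj, hja⟩ := ha
      obtain ⟨j', hj', hjb⟩ := hb
      exact ⟨j + j', J.add_mem hj hj', by rw [map_add, add_sub_add_comm]; exact add_mem hja hjb⟩
    | smul c a _ ha =>
      obtain ⟨j, hj, hja⟩ := ha
      obtain ⟨q, hq⟩ := AdicRingLib.exists_sub_mem_map_pow hI n c
      refine ⟨q * j, J.mul_mem_left _ hj, ?_⟩
      rw [smul_eq_mul, map_mul, show c * a - algebraMap P _ q * algebraMap P (AdicCompletion I P) j =
        c * (a - algebraMap P _ j) + (c - algebraMap P _ q) * algebraMap P _ j by ring]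
      exact add_mem (Ideal.mul_mem_left _ _ hja) (Ideal.mul_mem_right _ _ hq)
  obtain ⟨j, hj, hxj⟩ := key _ hx
  rw [← map_sub, AdicRingLib.algebraMap_mem_map_pow_iff hI] at hxj
  simpa using add_mem (h hxj) hj

/-- Composing extensions of ideals. -/
theorem map_map_eq {R S S' T : Type u} [CommRing R] [CommRing S] [CommRing S'] [CommRing T]
    {F G F' G' : Type u} [FunLike F R S] [RingHomClass F R S] [FunLike G S T] [RingHomClass G S T]
    [FunLike F' R S'] [RingHomClass F' R S'] [FunLike G' S' T] [RingHomClass G' S' T]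
    (f : F) (g : G) (f' : F') (g' : G') (J : Ideal R) (h : ∀ x, g (f x) = g' (f' x)) :
    (J.map f).map g = (J.map f').map g' := by
  rw [← Ideal.map_coe f, ← Ideal.map_coe g, ← Ideal.map_coe f', ← Ideal.map_coe g', Ideal.map_map, Ideal.map_map]
  exact congrArg (J.map ·) (RingHom.ext h)

theorem map_map' {R S T : Type u} [CommRing R] [CommRing S] [CommRing T]
    {F G H : Type u} [FunLike F R S] [RingHomClass F R S] [FunLike G S T] [RingHomClass G S T]
    [FunLike H R T] [RingHomClass H R T] (f : F) (g : G) (h : H) (J : Ideal R) (hh : ∀ x, g (f x) = h x) :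
    (J.map f).map g = J.map h := by
  rw [← Ideal.map_coe f, ← Ideal.map_coe g, ← Ideal.map_coe h, Ideal.map_map]
  exact congrArg (J.map ·) (RingHom.ext hh)

variable (k A B : Type u) [Field k] [CommRing A] [CommRing B] [Algebra k A] [Algebra k B]
  [IsLocalRing A] [IsLocalRing B] [IsNoetherianRing A] [IsNoetherianRing B]

local notation "PP" => A ⊗[k] B
local notation "II" => EGA4.cTensorIdeal k A B
local notation "CC" => EGA4.CTensor k A B
local notation "LL" => Ideal.map (algebraMap PP CC) II

theorem fg_cTensorIdeal : (II).FG :=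
  Submodule.FG.sup (Ideal.FG.map (IsNoetherian.noetherian (maximalIdeal A)) _)
    (Ideal.FG.map (IsNoetherian.noetherian (maximalIdeal B)) _)

theorem le_jacobson : LL ≤ Ideal.jacobson ⊥ := by
  have := AdicRingLib.isAdicComplete_map (fg_cTensorIdeal k A B)
  exact IsAdicComplete.le_jacobson_bot _

theorem pow_le_levelIdeal (M : ℕ) : II ^ (M + M) ≤ levelIdeal (k := k) (maximalIdeal A) (maximalIdeal B) M := by
  refine Ideal.sup_pow_add_le_pow_sup_pow.trans (sup_le_sup ?_ ?_) <;>
  · rw [← Ideal.map_pow]; try exact le_of_eq rfl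

theorem levelIdeal_le_pow (M : ℕ) : levelIdeal (k := k) (maximalIdeal A) (maximalIdeal B) M ≤ II ^ M := by
  refine sup_le ?_ ?_ <;> rw [Ideal.map_pow] <;> refine Ideal.pow_right_mono ?_ M
  · exact le_sup_left
  · exact le_sup_right

theorem map_levelIdeal_le (M : ℕ) :
    (levelIdeal (k := k) (maximalIdeal A) (maximalIdeal B) M).map (algebraMap PP CC) ≤ (LL) ^ M := by
  rw [← Ideal.map_pow]
  exact Ideal.map_mono (levelIdeal_le_pow k A B M)

theorem exists_sub_mem_levelIdeal (M : ℕ) (x : CC) : ∃ p : PP, x - algebraMap PP CC p ∈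
    (levelIdeal (k := k) (maximalIdeal A) (maximalIdeal B) M).map (algebraMap PP CC) := by
  obtain ⟨p, hp⟩ := AdicRingLib.exists_sub_mem_map_pow (fg_cTensorIdeal k A B) (M + M) x
  exact ⟨p, Ideal.map_mono (pow_le_levelIdeal k A B M) hp⟩

theorem flat_left [IsNoetherianRing CC] : Module.Flat A CC :=
  flat_of_levels (maximalIdeal A) (maximalIdeal B) (IsScalarTower.toAlgHom A PP CC)
    (exists_sub_mem_levelIdeal k A B)
    (fun M _ h => mem_of_algebraMap_mem (fg_cTensorIdeal k A B) (pow_le_levelIdeal k A B M) h)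
    LL (le_jacobson k A B) (map_levelIdeal_le k A B)

theorem flat_right [IsNoetherianRing CC] : Module.Flat B CC := by
  let c := Algebra.TensorProduct.commRight k B A
  let φ : B ⊗[k] A →ₐ[B] CC := (IsScalarTower.toAlgHom B PP CC).comp c.toAlgHom
  have hmap : ∀ M, (levelIdeal (k := k) (maximalIdeal B) (maximalIdeal A) M).map φ =
      (levelIdeal (k := k) (maximalIdeal A) (maximalIdeal B) M).map (algebraMap PP CC) := fun M => by
    rw [levelIdeal, levelIdeal, Ideal.map_sup, Ideal.map_sup, sup_comm]
    exact congrArg₂ (· ⊔ ·) (map_map_eq _ _ _ _ _ fun _ => rfl) (map_map_eq _ _ _ _ _ fun _ => rfl)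
  refine flat_of_levels (maximalIdeal B) (maximalIdeal A) φ (fun M x => ?_) (fun M p hp => ?_)
    LL (le_jacobson k A B) (fun M => by rw [hmap]; exact map_levelIdeal_le k A B M)
  · obtain ⟨p, hp⟩ := exists_sub_mem_levelIdeal k A B M x
    refine ⟨c.symm p, ?_⟩
    rw [hmap]
    show x - algebraMap PP CC (c (c.symm p)) ∈ _
    rwa [c.apply_symm_apply]
  · rw [hmap] at hp
    have h := mem_of_algebraMap_mem (fg_cTensorIdeal k A B) (pow_le_levelIdeal k A B M) hp
    have h1 : (levelIdeal (k := k) (maximalIdeal A) (maximalIdeal B) M).map c.symm.toAlgHom ≤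
        levelIdeal (k := k) (maximalIdeal B) (maximalIdeal A) M := by
      rw [levelIdeal, levelIdeal, Ideal.map_sup, sup_comm]
      exact le_of_eq (congrArg₂ (· ⊔ ·) (map_map' _ _ _ _ fun _ => rfl) (map_map' _ _ _ _ fun _ => rfl))
    simpa using h1 (Ideal.mem_map_of_mem c.symm.toAlgHom h)

local notation "QQ" => (A ⧸ maximalIdeal A) ⊗[k] B

/-- The reduction of `A ⊗ B` modulo the maximal ideal of `A`. -/
noncomputable abbrev θ : PP →ₐ[k] QQ :=
  Algebra.TensorProduct.map (Ideal.Quotient.mkₐ k (maximalIdeal A)) (AlgHom.id k B)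

theorem θ_surjective : Function.Surjective (θ k A B) :=
  TensorProduct.map_surjective (Ideal.Quotient.mkₐ_surjective k _) Function.surjective_id

theorem ker_θ : RingHom.ker (θ k A B) = (maximalIdeal A).map (algebraMap A PP) := by
  rw [Algebra.TensorProduct.rTensor_ker _ (Ideal.Quotient.mkₐ_surjective k _)]
  exact congrArg _ Ideal.mk_ker

theorem map_θ_pow_le (n : ℕ) : (II ^ n).map (θ k A B) ≤ ((maximalIdeal B) ^ n).map (algebraMap B QQ) := by
  rw [Ideal.map_pow, Ideal.map_pow]
  refine Ideal.pow_right_mono ?_ n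
  rw [EGA4.cTensorIdeal, Ideal.map_sup]
  refine sup_le ?_ ?_
  · refine le_trans (le_of_eq ?_) bot_le
    rw [Ideal.map_eq_bot_iff_le_ker, ker_θ]
    rfl
  · rw [AlgHom.coe_ideal_map, AlgHom.coe_ideal_map, Ideal.map_map, Ideal.map_le_iff_le_comap]
    intro b hb
    rw [Ideal.mem_comap]
    have h1 : ((θ k A B : PP →+* QQ).comp (Algebra.TensorProduct.includeRight : B →ₐ[k] PP)) b =
        algebraMap B QQ b := by
      simp [θ, Algebra.TensorProduct.right_algebraMap_apply]
    exact h1.symm ▸ Ideal.mem_map_of_mem _ hb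

/-- The reduction as a map of `B`-algebras. -/
noncomputable abbrev θB : PP →ₐ[B] QQ :=
  { (θ k A B).toRingHom with
    commutes' := fun b => by simp [θ, Algebra.TensorProduct.right_algebraMap_apply] }

variable [Module.Finite k (ResidueField A)]

theorem finite_reduction : Module.Finite B QQ := by
  haveI : Module.Finite k (A ⧸ maximalIdeal A) := ‹Module.Finite k (ResidueField A)›
  exact Module.Finite.equiv (Algebra.TensorProduct.commRight k B (A ⧸ maximalIdeal A)).toLinearEquiv

theorem surjective_quotient (J : Ideal CC) (hJ : LL ≤ J) :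
    Function.Surjective ((Ideal.Quotient.mk J).comp (algebraMap PP CC)) := fun y => by
  obtain ⟨x, rfl⟩ := Ideal.Quotient.mk_surjective y
  obtain ⟨p, hp⟩ := AdicRingLib.exists_sub_mem_map_pow (fg_cTensorIdeal k A B) 1 x
  rw [pow_one] at hp
  exact ⟨p, (Ideal.Quotient.eq.2 (hJ hp)).symm⟩

theorem finite_quotient (J : Ideal CC) (hJ : LL ≤ J) : Module.Finite B (CC ⧸ J) := by
  haveI := finite_reduction k A B
  let f : PP →ₐ[B] CC ⧸ J := IsScalarTower.toAlgHom B PP (CC ⧸ J)
  have hf : Function.Surjective f := surjective_quotient k A B J hJ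
  have hs : Function.Surjective (θB k A B) := θ_surjective k A B
  have hker : ∀ p ∈ RingHom.ker (θB k A B), f p = 0 := fun p hp => by
    have hp' : p ∈ (maximalIdeal A).map (algebraMap A PP) := (ker_θ k A B).le hp
    show algebraMap PP (CC ⧸ J) p = 0
    exact Ideal.Quotient.eq_zero_iff_mem.2
      (hJ (Ideal.mem_map_of_mem _ ((le_sup_left : _ ≤ II) hp')))
  let g : QQ →ₐ[B] CC ⧸ J := (Ideal.Quotient.liftₐ _ f hker).comp
    (Ideal.quotientKerAlgEquivOfSurjective hs).symm.toAlgHom
  refine Module.Finite.of_surjective g.toLinearMap fun y => ?_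
  obtain ⟨p, rfl⟩ := hf y
  refine ⟨θB k A B p, ?_⟩
  show Ideal.Quotient.liftₐ _ f hker ((Ideal.quotientKerAlgEquivOfSurjective hs).symm (θB k A B p)) = f p
  rw [show (Ideal.quotientKerAlgEquivOfSurjective hs).symm (θB k A B p) = Ideal.Quotient.mk _ p from
    (Ideal.quotientKerAlgEquivOfSurjective hs).injective (by
      rw [AlgEquiv.apply_symm_apply, Ideal.quotientKerAlgEquivOfSurjective_mk])]
  rfl

theorem isNoetherianRing : IsNoetherianRing CC := by
  have := AdicRingLib.isAdicComplete_map (fg_cTensorIdeal k A B)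
  haveI := finite_quotient k A B LL le_rfl
  haveI : IsNoetherianRing (CC ⧸ LL) := IsNoetherianRing.of_finite B _
  exact CompleteLib.isNoetherianRing_of_isAdicComplete LL ((fg_cTensorIdeal k A B).map _)

theorem finite_maximalSpectrum : Finite (MaximalSpectrum CC) := by
  haveI := finite_quotient k A B LL le_rfl
  have hle : maximalIdeal B ≤ (LL).comap (algebraMap B CC) := fun b hb => by
    rw [Ideal.mem_comap, IsScalarTower.algebraMap_apply B PP CC]
    exact Ideal.mem_map_of_mem _ ((le_sup_right : _ ≤ II) (Ideal.mem_map_of_mem _ hb))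
  letI : Algebra (B ⧸ maximalIdeal B) (CC ⧸ LL) := (Ideal.quotientMap _ (algebraMap B CC) hle).toAlgebra
  haveI : IsScalarTower B (B ⧸ maximalIdeal B) (CC ⧸ LL) := IsScalarTower.of_algebraMap_eq fun b => rfl
  haveI : Module.Finite (B ⧸ maximalIdeal B) (CC ⧸ LL) :=
    Module.Finite.of_restrictScalars_finite B _ _
  letI : Field (B ⧸ maximalIdeal B) := Ideal.Quotient.field _
  haveI : IsArtinianRing (CC ⧸ LL) := IsArtinianRing.of_finite (B ⧸ maximalIdeal B) _
  haveI : Finite (MaximalSpectrum (CC ⧸ LL)) := inferInstance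
  have hLM : ∀ M : MaximalSpectrum CC, LL ≤ M.asIdeal := fun M =>
    (le_jacobson k A B).trans (sInf_le ⟨bot_le, M.isMaximal⟩)
  refine Finite.of_injective (fun M : MaximalSpectrum CC => (⟨M.asIdeal.map (Ideal.Quotient.mk LL),
    (Ideal.map_eq_top_or_isMaximal_of_surjective _ Ideal.Quotient.mk_surjective M.isMaximal).resolve_left
      fun h => M.isMaximal.ne_top (by
        have h2 := congrArg (Ideal.comap (Ideal.Quotient.mk LL)) h
        rwa [Ideal.comap_map_of_surjective _ Ideal.Quotient.mk_surjective, ← RingHom.ker_eq_comap_bot,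
          Ideal.mk_ker, sup_eq_left.2 (hLM M), Ideal.comap_top] at h2)⟩ : MaximalSpectrum (CC ⧸ LL)))
    fun M N h => ?_
  have h2 := congrArg (Ideal.comap (Ideal.Quotient.mk LL)) (congrArg MaximalSpectrum.asIdeal h)
  simp only [Ideal.comap_map_of_surjective _ Ideal.Quotient.mk_surjective, ← RingHom.ker_eq_comap_bot,
    Ideal.mk_ker, sup_eq_left.2 (hLM M), sup_eq_left.2 (hLM N)] at h2
  exact MaximalSpectrum.ext h2

theorem map_maximalIdeal_le : (maximalIdeal A).map (algebraMap A CC) ≤ LL := by
  rw [IsScalarTower.algebraMap_eq A PP CC, ← Ideal.map_map]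
  exact Ideal.map_mono le_sup_left

variable [IsAdicComplete (maximalIdeal B) B]

theorem nonempty_quotient_equiv :
    Nonempty ((CC ⧸ (maximalIdeal A).map (algebraMap A CC)) ≃+* QQ) := by
  haveI := isNoetherianRing k A B
  haveI := finite_reduction k A B
  haveI : IsAdicComplete (maximalIdeal B) QQ := CompleteLib.isAdicComplete_of_finite
  have hI := fg_cTensorIdeal k A B
  let K := (maximalIdeal A).map (algebraMap A CC)
  let ψ : PP →+* CC ⧸ K := (Ideal.Quotient.mk K).comp (algebraMap PP CC)
  have hK : K = ((maximalIdeal A).map (algebraMap A PP)).map (algebraMap PP CC) := by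
    rw [Ideal.map_map, ← IsScalarTower.algebraMap_eq]
  have hsm : ∀ n, ∀ q ∈ ((maximalIdeal B) ^ n).map (algebraMap B QQ),
      q ∈ (maximalIdeal B ^ n • ⊤ : Submodule B QQ) := fun n q hq => by
    rw [Ideal.smul_top_eq_map, Submodule.restrictScalars_mem]; exact hq
  have hker : RingHom.ker ψ = RingHom.ker (θ k A B).toRingHom := by
    refine le_antisymm (fun p hp => ?_) (fun p hp => ?_)
    · have hp' : algebraMap PP CC p ∈ K := Ideal.Quotient.eq_zero_iff_mem.1 hp
      have hH : IsHausdorff (maximalIdeal B) QQ := IsAdicComplete.toIsHausdorff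
      refine hH.haus' (θ k A B p) fun n => ?_
      rw [SModEq.zero]
      refine hsm n _ ?_
      have h1 : p ∈ (maximalIdeal A).map (algebraMap A PP) ⊔ II ^ n :=
        mem_of_algebraMap_mem hI le_sup_right (by
          rw [hK] at hp'
          exact Ideal.map_mono le_sup_left hp')
      obtain ⟨a, ha, b, hb, rfl⟩ := Submodule.mem_sup.1 h1
      rw [← ker_θ, RingHom.mem_ker] at ha
      rw [map_add, ha, zero_add]
      exact map_θ_pow_le k A B n (Ideal.mem_map_of_mem _ hb)
    · refine Ideal.Quotient.eq_zero_iff_mem.2 ?_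
      show algebraMap PP CC p ∈ K
      rw [hK]
      exact Ideal.mem_map_of_mem _ ((ker_θ k A B).le hp)
  have hsurj : Function.Surjective ψ := fun y => by
    obtain ⟨x, rfl⟩ := Ideal.Quotient.mk_surjective y
    choose p hp using fun n => AdicRingLib.exists_sub_mem_map_pow hI n x
    have hc : ∀ {m n}, m ≤ n → θ k A B (p m) ≡ θ k A B (p n)
        [SMOD (maximalIdeal B ^ m • ⊤ : Submodule B QQ)] := fun {m n} hmn => by
      rw [SModEq.sub_mem, ← map_sub]
      refine hsm m _ (map_θ_pow_le k A B m (Ideal.mem_map_of_mem _ ?_))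
      rw [← AdicRingLib.algebraMap_mem_map_pow_iff hI, map_sub]
      have h1 := Ideal.map_mono (Ideal.pow_le_pow_right hmn) (hp n)
      have h2 := sub_mem h1 (hp m)
      rwa [sub_sub_sub_cancel_left] at h2
    obtain ⟨q, hq⟩ := IsPrecomplete.prec' (I := maximalIdeal B) (fun n => θ k A B (p n)) hc
    obtain ⟨p₀, rfl⟩ := θ_surjective k A B q
    refine ⟨p₀, ?_⟩
    haveI : IsHausdorff LL (CC ⧸ K) := IsHausdorff.of_le_jacobson LL _ (le_jacobson k A B)
    refine sub_eq_zero.1 (IsHausdorff.haus' (I := LL) _ fun n => ?_)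
    rw [SModEq.zero, Ideal.smul_top_eq_map, Submodule.restrictScalars_mem]
    show Ideal.Quotient.mk K (algebraMap PP CC p₀) - Ideal.Quotient.mk K x ∈ _
    have h3 := SModEq.sub_mem.1 (hq n)
    rw [Ideal.smul_top_eq_map, Submodule.restrictScalars_mem, ← map_sub] at h3
    have h4 : ((maximalIdeal B) ^ n).map (algebraMap B QQ) ≤ (II ^ n).map (θ k A B) := by
      rw [Ideal.map_le_iff_le_comap]
      intro b hb
      have hbI : algebraMap B PP b ∈ II ^ n :=
        levelIdeal_le_pow k A B n (Ideal.mem_sup_right (Ideal.mem_map_of_mem _ hb))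
      have h5 := Ideal.mem_map_of_mem (θ k A B) hbI
      rwa [show θ k A B (algebraMap B PP b) = algebraMap B QQ b by
        simp [θ, Algebra.TensorProduct.right_algebraMap_apply]] at h5
    obtain ⟨r, hr, hr'⟩ := (Ideal.mem_map_iff_of_surjective (θ k A B) (θ_surjective k A B)).1 (h4 h3)
    have h6 : p n - p₀ - r ∈ RingHom.ker (θ k A B).toRingHom := by
      rw [RingHom.mem_ker]
      show θ k A B (p n - p₀ - r) = 0
      rw [map_sub, hr', sub_self]
    rw [← hker] at h6
    have h7 : Ideal.Quotient.mk K (algebraMap PP CC (p n - p₀ - r)) = 0 := h6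
    rw [map_sub, map_sub, map_sub, map_sub, sub_sub, sub_eq_zero] at h7
    have h8 : Ideal.Quotient.mk K (algebraMap PP CC p₀) - Ideal.Quotient.mk K x =
        Ideal.Quotient.mk K (algebraMap PP CC (p n) - x) - Ideal.Quotient.mk K (algebraMap PP CC r) := by
      rw [map_sub, h7]; ring
    rw [h8, ← map_sub]
    refine Ideal.mem_map_of_mem _ ?_
    rw [← Ideal.map_pow]
    exact sub_mem (by rw [← neg_sub]; exact neg_mem (hp n)) (Ideal.mem_map_of_mem _ hr)
  exact ⟨(RingHom.quotientKerEquivOfSurjective hsurj).symm.trans ((Ideal.quotEquivOfEq hker).trans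
    (RingHom.quotientKerEquivOfSurjective (θ_surjective k A B)))⟩

end CTensorSemilocal
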